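import Cfsg.Agent.H76.PSolvable
import Cfsg.Agent.HH.QuadA
import Cfsg.Agent.Cop.GenAb
import Cfsg.Agent.S0625
import Cfsg.Agent.H63.PLen

/-!
p-solvable groups whose Sylow `p`-subgroup `P` is semi-extraspecial (`[x,P] = Z(P)` for noncentral `x`,
`Φ(P) ≤ Z(P)`): either `P` is normal modulo `O_{p'}`, or `|P| = p^3` and `p ≤ 3`.
-/

set_option autoImplicit false
set_option linter.unusedSectionVars false
set_option linter.unusedVariables false
set_option linter.style.haveILetI false

namespace Cfsg.Agent.H84.Sch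

open Subgroup
open scoped commutatorElement

/-- semi-extraspecial type condition (allowing larger elementary abelian central factors) -/
structure SEE (p : ℕ) (T : Type*) [Group T] : Prop where
  comm : ∀ x y : T, ⁅x, y⁆ ∈ center T
  pow : ∀ x : T, x ^ p ∈ center T
  full : ∀ x : T, x ∉ center T → ∀ z ∈ center T, ∃ g : T, ⁅x, g⁆ = z

theorem SEE.of_equiv {p : ℕ} {T T' : Type*} [Group T] [Group T'] (h : SEE p T) (e : T ≃* T') : SEE p T' := by
  have hc : ∀ x : T, x ∈ center T ↔ e x ∈ center T' := by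
    intro x
    rw [mem_center_iff, mem_center_iff]
    constructor
    · intro hx y
      have := hx (e.symm y)
      have := congrArg e this
      rwa [map_mul, map_mul, e.apply_symm_apply] at this
    · intro hx y
      apply e.injective
      rw [map_mul, map_mul]
      exact hx (e y)
  refine ⟨?_, ?_, ?_⟩
  · intro x y
    obtain ⟨x, rfl⟩ := e.surjective x
    obtain ⟨y, rfl⟩ := e.surjective y
    rw [← map_commutatorElement]
    exact (hc _).1 (h.comm x y)
  · intro x
    obtain ⟨x, rfl⟩ := e.surjective x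
    rw [← map_pow]
    exact (hc _).1 (h.pow x)
  · intro x hx z hz
    obtain ⟨x, rfl⟩ := e.surjective x
    obtain ⟨z, rfl⟩ := e.surjective z
    obtain ⟨g, hg⟩ := h.full x (fun h' => hx ((hc _).1 h')) z ((hc _).2 hz)
    exact ⟨e g, by rw [← map_commutatorElement, hg]⟩

variable {G : Type*} [Group G] [Finite G] {p : ℕ} [hp : Fact p.Prime]

theorem comm_mul_right {w g h : G} (hc : ⁅w, h⁆ * g = g * ⁅w, h⁆) : ⁅w, g * h⁆ = ⁅w, g⁆ * ⁅w, h⁆ := by
  have h1 : ⁅w, g * h⁆ = ⁅w, g⁆ * (g * ⁅w, h⁆ * g⁻¹) := by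
    simp only [commutatorElement_def]; group
  rw [h1, ← hc]; group

/-- the main step -/
theorem core (hG : IsPSolvable p G) (hO : pPrimeCore p G = ⊥) (P : Sylow p G) (hS : SEE p ↥(P : Subgroup G))
    (hne : ¬ (P : Subgroup G) ≤ pCore p G) :
    Nat.card (P : Subgroup G) = p ^ 3 ∧ Nat.card (center ↥(P : Subgroup G)) = p ∧
      (∃ w : ↥(P : Subgroup G), w ∉ center ↥(P : Subgroup G) ∧ w ^ p = 1) ∧ p < 5 := by
  classical
  set Q : Subgroup G := pCore p G with hQdef
  haveI hQn : Q.Normal := Solv.pCore_normal p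
  have hQp : IsPGroup p Q := Solv.pCore_isPGroup p
  have hCQ : centralizer (Q : Set G) ≤ Q := H76.centralizer_pCore_le hG hO
  have hQP : Q ≤ (P : Subgroup G) := Solv.pCore_le_sylow P
  set Z : Subgroup G := (P : Subgroup G) ⊓ centralizer ((P : Subgroup G) : Set G) with hZ
  have hcen : ∀ x : ↥(P : Subgroup G), x ∈ center ↥(P : Subgroup G) ↔ (x : G) ∈ Z := by
    intro x
    rw [mem_center_iff]
    constructor
    · intro h
      refine ⟨x.2, mem_centralizer_iff.2 ?_⟩
      intro y hy
      exact congrArg Subtype.val (h ⟨y, hy⟩)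
    · rintro ⟨-, h⟩ y
      apply Subtype.ext
      exact mem_centralizer_iff.1 h y y.2
  have hZc : ∀ z ∈ Z, ∀ x ∈ (P : Subgroup G), z * x = x * z := by
    intro z hz x hx
    exact (mem_centralizer_iff.1 hz.2 x hx).symm
  have h1 : ∀ x ∈ (P : Subgroup G), ∀ y ∈ (P : Subgroup G), ⁅x, y⁆ ∈ Z := by
    intro x hx y hy
    exact (hcen _).1 (hS.comm ⟨x, hx⟩ ⟨y, hy⟩)
  have h2 : ∀ x ∈ (P : Subgroup G), x ^ p ∈ Z := by
    intro x hx
    exact (hcen _).1 (hS.pow ⟨x, hx⟩)
  have h3 : ∀ x ∈ (P : Subgroup G), x ∉ Z → ∀ z ∈ Z, ∃ g ∈ (P : Subgroup G), ⁅x, g⁆ = z := by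
    intro x hx hxZ z hz
    obtain ⟨g, hg⟩ := hS.full ⟨x, hx⟩ (fun h => hxZ ((hcen _).1 h)) ⟨z, hz.1⟩ ((hcen _).2 hz)
    exact ⟨g, g.2, congrArg Subtype.val hg⟩
  have hZQ : Z ≤ Q := by
    refine le_trans ?_ hCQ
    intro z hz
    rw [mem_centralizer_iff]
    intro x hx
    exact (hZc z hz x (hQP hx)).symm
  -- the quotient
  set π := QuotientGroup.mk' Q with hπ
  set A : Subgroup (G ⧸ Q) := (P : Subgroup G).map π with hA
  set K : Subgroup (G ⧸ Q) := pPrimeCore p (G ⧸ Q) with hK
  haveI hKn : K.Normal := Solv.pPrimeCore_normal p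
  have hKc : (Nat.card K).Coprime p := Solv.pPrimeCore_card_coprime p
  have hcore : pCore p (G ⧸ Q) = ⊥ := HH.pCore_quotient_eq_bot
  have hGq : IsPSolvable p (G ⧸ Q) := H76.isPSolvable_quotient Q hG
  have hAp : IsPGroup p A := P.2.map π
  have hA1 : A ≠ ⊥ := by
    intro h
    apply hne
    intro x hx
    have : π x ∈ A := mem_map_of_mem π hx
    rw [h, mem_bot] at this
    exact (QuotientGroup.eq_one_iff x).1 this
  have hKA := HH.comm_pPrimeCore_ne hGq hcore hAp hA1
  have hAc : IsMulCommutative A := by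
    refine ⟨⟨?_⟩⟩
    rintro ⟨_, ⟨x, hx, rfl⟩⟩ ⟨_, ⟨y, hy, rfl⟩⟩
    apply Subtype.ext
    change π x * π y = π y * π x
    rw [← map_mul, ← map_mul]
    rw [QuotientGroup.mk'_apply, QuotientGroup.mk'_apply, QuotientGroup.eq]
    have h4 := hZQ (h1 y⁻¹ (inv_mem hy) x⁻¹ (inv_mem hx))
    rw [commutatorElement_def, inv_inv, inv_inv] at h4
    have h5 : (x * y)⁻¹ * (y * x) = y⁻¹ * x⁻¹ * y * x := by group
    rw [h5]
    exact h4
  have hcopAK : (Nat.card A).Coprime (Nat.card K) := by
    obtain ⟨k, hk⟩ := IsPGroup.iff_card.1 hAp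
    rw [hk]
    exact (Nat.Coprime.pow_right k hKc).symm
  have hgen := Cop.commutator_le_genD hAc _ K rfl (le_trans le_top (normalizer_eq_top K).ge) hcopAK
  obtain ⟨B', hB'c, hB'⟩ : ∃ B' ∈ Cop.cycQuot A, ⁅K ⊓ centralizer (B' : Set (G ⧸ Q)), A⁆ ≠ ⊥ := by
    by_contra hcon
    push Not at hcon
    apply hKA
    rw [eq_bot_iff]
    refine hgen.trans ?_
    unfold Cop.genD
    exact iSup₂_le fun B hB => (hcon B hB).le
  obtain ⟨hB'A, a, haA, hBa⟩ := hB'c
  set B : Subgroup G := B'.comap π with hB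
  have hQB : Q ≤ B := by
    intro x hx
    rw [hB, mem_comap]
    have : π x = 1 := (QuotientGroup.eq_one_iff x).2 hx
    rw [this]; exact one_mem _
  have hBP : B ≤ (P : Subgroup G) := by
    intro x hx
    obtain ⟨y, hy, hyx⟩ := hB'A hx
    have h4 : y⁻¹ * x ∈ Q := by
      rw [← QuotientGroup.eq]
      exact hyx
    have := mul_mem hy (hQP h4)
    rwa [mul_inv_cancel_left] at this
  obtain ⟨u, hu, rfl⟩ := haA
  set C : Subgroup G := (K ⊓ centralizer (B' : Set (G ⧸ Q))).comap π with hC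
  have hCB : ∀ y ∈ C, ∀ b ∈ B, y * b * y⁻¹ ∈ B := by
    intro y hy b hb
    rw [hB, mem_comap, map_mul, map_mul, map_inv]
    have h4 := mem_centralizer_iff.1 (mem_comap.1 hy).2 (π b) hb
    rw [← h4, mul_inv_cancel_right]
    exact hb
  -- every element of P is b * u^i
  have hdec : ∀ g ∈ (P : Subgroup G), ∃ b ∈ B, ∃ i : ℤ, g = b * u ^ i := by
    intro g hg
    have h4 : π g ∈ B' ⊔ zpowers (π u) := by
      rw [hBa]; exact mem_map_of_mem π hg
    have h5 : ∀ x ∈ B' ⊔ zpowers (π u), ∃ b ∈ B', ∃ i : ℤ, x = b * (π u) ^ i := by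
      intro x hx
      have huA : π u ∈ A := mem_map_of_mem π hu
      have hn : zpowers (π u) ≤ normalizer (B' : Set (G ⧸ Q)) := by
        rw [zpowers_le, mem_normalizer_iff]
        intro b
        constructor
        · intro hb
          rw [Cop.comm_of_isMulCommutative hAc huA (hB'A hb), mul_inv_cancel_right]
          exact hb
        · intro hb
          have h6 := Cop.comm_of_isMulCommutative hAc (inv_mem huA) (hB'A hb)
          have h7 : b = (π u)⁻¹ * (π u * b * (π u)⁻¹) * π u := by group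
          rw [h7, h6, inv_mul_cancel_right]
          exact hb
      rw [← SetLike.mem_coe, coe_mul_of_right_le_normalizer_left _ _ hn] at hx
      obtain ⟨b, hb, c, hc, rfl⟩ := hx
      obtain ⟨i, rfl⟩ := mem_zpowers_iff.1 hc
      exact ⟨b, hb, i, rfl⟩
    obtain ⟨b, hb, i, hbi⟩ := h5 _ h4
    refine ⟨g * (u ^ i)⁻¹, ?_, i, by group⟩
    rw [hB, mem_comap, map_mul, map_inv, map_zpow, hbi, mul_inv_cancel_right]
    exact hb
  -- Claim 1
  have claim1 : ∃ y ∈ C, ∃ z ∈ Z, y * z * y⁻¹ ∉ Z := by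
    by_contra hcon
    push Not at hcon
    apply hB'
    rw [eq_bot_iff, commutator_le]
    rintro k hk c hcA
    obtain ⟨y, rfl⟩ := QuotientGroup.mk'_surjective Q k
    obtain ⟨g, hg, rfl⟩ := hcA
    have hyC : y ∈ C := hk
    let S : Subgroup G :=
      { carrier := {s | (∀ z ∈ Z, s * z = z * s) ∧ ∀ x ∈ Q, ⁅s, x⁆ ∈ Z}
        one_mem' := ⟨fun z _ => by simp, fun x _ => by simp [one_mem]⟩
        mul_mem' := by
          rintro s t ⟨hs1, hs2⟩ ⟨ht1, ht2⟩
          refine ⟨fun z hz => by rw [mul_assoc, ht1 z hz, ← mul_assoc, hs1 z hz, mul_assoc], ?_⟩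
          intro x hx
          have h4 : ⁅s * t, x⁆ = s * ⁅t, x⁆ * s⁻¹ * ⁅s, x⁆ := by
            simp only [commutatorElement_def]; group
          rw [h4, hs1 _ (ht2 x hx), mul_inv_cancel_right]
          exact mul_mem (ht2 x hx) (hs2 x hx)
        inv_mem' := by
          rintro s ⟨hs1, hs2⟩
          refine ⟨fun z hz => by rw [inv_mul_eq_iff_eq_mul, ← mul_assoc, hs1 z hz, mul_inv_cancel_right], ?_⟩
          intro x hx
          have h4 : ⁅s⁻¹, x⁆ = s⁻¹ * ⁅s, x⁆⁻¹ * s := by
            simp only [commutatorElement_def]; group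
          have h5 : s * ⁅s, x⁆⁻¹ = ⁅s, x⁆⁻¹ * s := hs1 _ (inv_mem (hs2 x hx))
          rw [h4, mul_assoc, ← h5, inv_mul_cancel_left]
          exact inv_mem (hs2 x hx) }
    have hPS : (P : Subgroup G) ≤ S := by
      intro s hs
      exact ⟨fun z hz => (hZc z hz s hs).symm, fun x hx => h1 s hs x (hQP hx)⟩
    have hPS' : ∀ s ∈ (P : Subgroup G), y * s * y⁻¹ ∈ S := by
      intro s hs
      constructor
      · intro z hz
        have h4 : y⁻¹ * z * y ∈ Z := by
          have := hcon y⁻¹ (inv_mem hyC) z hz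
          rwa [inv_inv] at this
        have h5 := hZc _ h4 s hs
        calc y * s * y⁻¹ * z = y * (s * (y⁻¹ * z * y)) * y⁻¹ := by group
          _ = y * ((y⁻¹ * z * y) * s) * y⁻¹ := by rw [h5]
          _ = z * (y * s * y⁻¹) := by group
      · intro x hx
        have h4 : ⁅y * s * y⁻¹, x⁆ = y * ⁅s, y⁻¹ * x * y⁆ * y⁻¹ := by
          simp only [commutatorElement_def]; group
        rw [h4]
        apply hcon y hyC
        apply h1 s hs
        apply hQP
        have := hQn.conj_mem x hx y⁻¹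
        rwa [inv_inv] at this
    have hSp : ∀ s ∈ S, (orderOf s).Coprime p → s = 1 := by
      rintro s ⟨hs1, hs2⟩ hso
      have hsC : s ∈ centralizer (Q : Set G) := by
        rw [mem_centralizer_iff]
        intro x hx
        have h4 : ∀ n : ℕ, s ^ n * x * (s ^ n)⁻¹ = ⁅s, x⁆ ^ n * x := by
          intro n
          induction n with
          | zero => simp
          | succ n ih =>
            rw [pow_succ', mul_inv_rev]
            calc s * s ^ n * x * ((s ^ n)⁻¹ * s⁻¹) = s * (s ^ n * x * (s ^ n)⁻¹) * s⁻¹ := by group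
              _ = s * (⁅s, x⁆ ^ n * x) * s⁻¹ := by rw [ih]
              _ = (s * ⁅s, x⁆ ^ n) * x * s⁻¹ := by group
              _ = (⁅s, x⁆ ^ n * s) * x * s⁻¹ := by rw [hs1 _ (pow_mem (hs2 x hx) n)]
              _ = ⁅s, x⁆ ^ n * (s * x * s⁻¹ * x⁻¹) * x := by group
              _ = ⁅s, x⁆ ^ (n + 1) * x := by rw [← commutatorElement_def, pow_succ]
        have h5 := h4 (orderOf s)
        rw [pow_orderOf_eq_one] at h5
        have h6 : ⁅s, x⁆ ^ (orderOf s) = 1 := by
          have : (1 : G) * x * 1⁻¹ = x := by simp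
          rw [this] at h5
          exact (mul_eq_right.1 h5.symm)
        have h7 : ⁅s, x⁆ = 1 := by
          rw [← orderOf_eq_one_iff]
          have h8 := orderOf_dvd_of_pow_eq_one h6
          obtain ⟨k, hk⟩ := (IsPGroup.iff_orderOf.1 hQp) ⟨⁅s, x⁆, hZQ (hs2 x hx)⟩
          rw [Subgroup.orderOf_mk] at hk
          apply Nat.eq_one_of_dvd_coprimes (Nat.Coprime.pow_right k hso) h8
          rw [hk]
        rw [commutatorElement_eq_one_iff_mul_comm] at h7
        exact h7.symm
      have hsQ := hCQ hsC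
      rw [← orderOf_eq_one_iff]
      obtain ⟨k, hk⟩ := (IsPGroup.iff_orderOf.1 hQp) ⟨s, hsQ⟩
      rw [Subgroup.orderOf_mk] at hk
      apply Nat.eq_one_of_dvd_coprimes (Nat.Coprime.pow_right k hso) dvd_rfl
      rw [hk]
    have hcS : ⁅y, g⁆ ∈ S := by
      rw [commutatorElement_def]
      exact mul_mem (hPS' g hg) (hPS (inv_mem hg))
    -- its image is a p-element in a p'-group
    have hcK : ⁅π y, π g⁆ ∈ K := by
      rw [commutatorElement_def, mul_assoc, mul_assoc]
      apply mul_mem (show π y ∈ K from hk.1)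
      rw [← mul_assoc]
      exact hKn.conj_mem _ (inv_mem (show π y ∈ K from hk.1)) _
    rw [mem_bot]
    -- a p-power of ⁅y,g⁆ is trivial
    set c := ⁅y, g⁆ with hc
    obtain ⟨k, m, hm, hcm⟩ : ∃ k m : ℕ, m.Coprime p ∧ orderOf c = p ^ k * m := by
      obtain ⟨k, m, hm, hcm⟩ := Nat.exists_eq_pow_mul_and_not_dvd (orderOf_pos c).ne' p hp.out.one_lt.ne'
      exact ⟨k, m, ((Nat.Prime.coprime_iff_not_dvd hp.out).2 hm).symm, hcm⟩
    have h8 : c ^ (p ^ k) = 1 := by
      apply hSp _ (pow_mem hcS _)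
      have h9 : orderOf (c ^ (p ^ k)) = m := by
        rw [orderOf_pow' c (pow_pos hp.out.pos k).ne', hcm, Nat.gcd_mul_right_left,
          Nat.mul_div_cancel_left m (pow_pos hp.out.pos k)]
      rw [h9]; exact hm
    have h9 : π c = ⁅π y, π g⁆ := map_commutatorElement π y g
    have h10 : (π c) ^ (p ^ k) = 1 := by rw [← map_pow, h8, map_one]
    change ⁅π y, π g⁆ = 1
    rw [← h9, ← orderOf_eq_one_iff]
    have h11 : orderOf (π c) ∣ Nat.card K := by
      rw [← h9] at hcK
      have := orderOf_dvd_natCard (⟨π c, hcK⟩ : K)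
      rwa [Subgroup.orderOf_mk] at this
    exact Nat.eq_one_of_dvd_coprimes (Nat.Coprime.pow_right k hKc) h11 (orderOf_dvd_of_pow_eq_one h10)
  obtain ⟨y, hyC, z, hz, hw⟩ := claim1
  set w := y * z * y⁻¹ with hwdef
  have hwQ : w ∈ Q := hQn.conj_mem z (hZQ hz) y
  have hwP : w ∈ (P : Subgroup G) := hQP hwQ
  have hwB : ∀ b ∈ B, w * b = b * w := by
    intro b hb
    have h4 : y⁻¹ * b * y ∈ B := by
      have := hCB y⁻¹ (inv_mem hyC) b hb
      rwa [inv_inv] at this
    have h5 := hZc z hz _ (hBP h4)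
    calc w * b = y * (z * (y⁻¹ * b * y)) * y⁻¹ := by rw [hwdef]; group
      _ = y * ((y⁻¹ * b * y) * z) * y⁻¹ := by rw [h5]
      _ = b * w := by rw [hwdef]; group
  -- the homomorphism g ↦ ⁅w, g⁆
  set t := ⁅w, u⁆ with ht
  have htZ : t ∈ Z := h1 w hwP u hu
  have hmulr : ∀ x ∈ (P : Subgroup G), ∀ g ∈ (P : Subgroup G), ∀ h ∈ (P : Subgroup G), ⁅x, g * h⁆ = ⁅x, g⁆ * ⁅x, h⁆ := by
    intro x hx g hg h hh
    exact comm_mul_right (hZc _ (h1 x hx h hh) g hg)
  have hpowr : ∀ x ∈ (P : Subgroup G), ∀ g ∈ (P : Subgroup G), ∀ n : ℕ, ⁅x, g ^ n⁆ = ⁅x, g⁆ ^ n := by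
    intro x hx g hg n
    induction n with
    | zero => simp
    | succ n ih => rw [pow_succ, hmulr x hx _ (pow_mem hg n) _ hg, ih, pow_succ]
  have htp : t ^ p = 1 := by
    rw [ht, ← hpowr w hwP u hu p, commutatorElement_eq_one_iff_mul_comm]
    exact (hZc _ (h2 u hu) w hwP).symm
  have hwu : ∀ g ∈ (P : Subgroup G), ⁅w, g⁆ ∈ zpowers t := by
    intro g hg
    obtain ⟨b, hb, i, rfl⟩ := hdec g hg
    have h4 : ⁅w, b⁆ = 1 := by
      rw [commutatorElement_eq_one_iff_mul_comm]; exact hwB b hb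
    rw [hmulr w hwP b (hBP hb) _ (zpow_mem hu i), h4, one_mul]
    have h5 : ∀ n : ℕ, ⁅w, u ^ n⁆ ∈ zpowers t := by
      intro n; rw [hpowr w hwP u hu n]; exact pow_mem (mem_zpowers t) n
    rcases i with n | n
    · simpa using h5 n
    · rw [zpow_negSucc]
      have h6 : ⁅w, (u ^ (n + 1))⁻¹⁆ = ⁅w, u ^ (n + 1)⁆⁻¹ := by
        rw [eq_inv_iff_mul_eq_one, ← hmulr w hwP _ (inv_mem (pow_mem hu _)) _ (pow_mem hu _), inv_mul_cancel,
          commutatorElement_one_right]
      rw [h6]
      exact inv_mem (h5 _)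
  have hZt : Z = zpowers t := by
    apply le_antisymm
    · intro z' hz'
      obtain ⟨g, hg, rfl⟩ := h3 w hwP hw z' hz'
      exact hwu g hg
    · rw [zpowers_le]; exact htZ
  have ht1 : t ≠ 1 := by
    intro h
    apply hw
    refine ⟨hwP, mem_centralizer_iff.2 ?_⟩
    intro g hg
    have h4 := hwu g hg
    rw [h, zpowers_one_eq_bot, mem_bot, commutatorElement_eq_one_iff_mul_comm] at h4
    exact h4.symm
  have hto : orderOf t = p := orderOf_eq_prime htp ht1
  have hZcard : Nat.card Z = p := by rw [hZt, Nat.card_zpowers, hto]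
  have hZ1 : ∀ s ∈ Z, s ≠ 1 → zpowers s = Z := by
    intro s hs hs1
    apply Subgroup.eq_of_le_of_card_ge (zpowers_le.2 hs)
    rw [hZcard, Nat.card_zpowers]
    have h4 : orderOf s ∣ p := by
      have := orderOf_dvd_natCard (⟨s, hs⟩ : Z)
      rwa [Subgroup.orderOf_mk, hZcard] at this
    rcases (Nat.dvd_prime hp.out).1 h4 with h5 | h5
    · exact absurd (orderOf_eq_one_iff.1 h5) hs1
    · exact h5.ge
  -- B is abelian
  have hBab : ∀ b ∈ B, ∀ b' ∈ B, b * b' = b' * b := by
    intro b hb b' hb'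
    rw [← commutatorElement_eq_one_iff_mul_comm]
    by_contra hs1
    have hs : ⁅b, b'⁆ ∈ Z := h1 b (hBP hb) b' (hBP hb')
    have hys : y * ⁅b, b'⁆ * y⁻¹ ∈ Z := by
      have h4 : y * ⁅b, b'⁆ * y⁻¹ = ⁅y * b * y⁻¹, y * b' * y⁻¹⁆ := by
        simp only [commutatorElement_def]; group
      rw [h4]
      exact h1 _ (hBP (hCB y hyC b hb)) _ (hBP (hCB y hyC b' hb'))
    apply hw
    rw [← hZ1 _ hs hs1] at hz
    obtain ⟨i, hi⟩ := mem_zpowers_iff.1 hz
    rw [hwdef, ← hi, ← conj_zpow]
    exact zpow_mem hys i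
  -- cardinalities
  have hZB : Z ≤ B := hZQ.trans hQB
  have huB : u ∉ B := by
    intro h
    apply ht1
    rw [ht, commutatorElement_eq_one_iff_mul_comm]
    exact hwB u h
  have hcardB : Nat.card B = p ^ 2 := by
    let f : B →* G :=
      { toFun := fun b => ⁅u, (b : G)⁆
        map_one' := by simp
        map_mul' := fun b c => by
          change ⁅u, (b : G) * c⁆ = _
          exact hmulr u hu b (hBP b.2) c (hBP c.2) }
    have hker : f.ker.map B.subtype = Z := by
      ext x
      constructor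
      · rintro ⟨b, hb, rfl⟩
        have h4 : ⁅u, (b : G)⁆ = 1 := hb
        rw [commutatorElement_eq_one_iff_mul_comm] at h4
        refine ⟨hBP b.2, mem_centralizer_iff.2 ?_⟩
        intro g hg
        obtain ⟨c, hc, i, rfl⟩ := hdec g hg
        change c * u ^ i * (b : G) = b * (c * u ^ i)
        have h5 : u ^ i * (b : G) = b * u ^ i := (Commute.zpow_left h4 i)
        rw [mul_assoc, h5, ← mul_assoc, hBab c hc b b.2, mul_assoc]
      · intro hx
        refine ⟨⟨x, hZB hx⟩, ?_, rfl⟩
        change ⁅u, x⁆ = 1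
        rw [commutatorElement_eq_one_iff_mul_comm]
        exact (hZc x hx u hu).symm
    have hrange : f.range ≤ Z := by
      rintro _ ⟨b, rfl⟩
      exact h1 u hu b (hBP b.2)
    have h4 : Nat.card f.ker * Nat.card f.range = Nat.card B := by
      rw [← Subgroup.index_ker, Subgroup.card_mul_index]
    have h5 : Nat.card f.ker = p := by
      rw [← hZcard, ← hker]
      exact (Subgroup.card_map_of_injective B.subtype_injective).symm
    have h6 : Nat.card f.range ∣ p := by
      rw [← hZcard]; exact Subgroup.card_dvd_of_le hrange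
    rcases (Nat.dvd_prime hp.out).1 h6 with h7 | h7
    · exfalso
      rw [h5, h7, mul_one] at h4
      have h8 : Z = B := Subgroup.eq_of_le_of_card_ge hZB (by rw [hZcard, h4])
      exact hw (h8 ▸ hQB hwQ)
    · rw [← h4, h5, h7, sq]
  have hcardP : Nat.card (P : Subgroup G) = p ^ 3 := by
    let f : ↥(P : Subgroup G) →* G :=
      { toFun := fun b => ⁅w, (b : G)⁆
        map_one' := by simp
        map_mul' := fun b c => by
          change ⁅w, (b : G) * c⁆ = _
          exact hmulr w hwP b b.2 c c.2 }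
    have hrange : f.range = Z := by
      ext x
      constructor
      · rintro ⟨b, rfl⟩
        exact h1 w hwP b b.2
      · intro hx
        obtain ⟨g, hg, rfl⟩ := h3 w hwP hw x hx
        exact ⟨⟨g, hg⟩, rfl⟩
    have hker : f.ker.map (P : Subgroup G).subtype = B := by
      ext x
      constructor
      · rintro ⟨b, hb, rfl⟩
        have h4 : ⁅w, (b : G)⁆ = 1 := hb
        obtain ⟨c, hc, i, hi⟩ := hdec b b.2
        change (b : G) ∈ B
        rw [hi] at h4 ⊢
        have h5 : ⁅w, c⁆ = 1 := by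
          rw [commutatorElement_eq_one_iff_mul_comm]; exact hwB c hc
        rw [hmulr w hwP c (hBP hc) _ (zpow_mem hu i), h5, one_mul] at h4
        apply mul_mem hc
        by_cases hpi : (p : ℤ) ∣ i
        · obtain ⟨j, rfl⟩ := hpi
          rw [zpow_mul, zpow_natCast]
          exact zpow_mem (hZB (h2 u hu)) j
        · exfalso
          -- u^i commutes with w and p does not divide i, so u commutes with w
          have h6 : IsCoprime i (p : ℤ) := by
            rw [Int.isCoprime_iff_gcd_eq_one, Int.gcd_comm, ← Int.isCoprime_iff_gcd_eq_one]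
            exact ((Nat.prime_iff_prime_int.1 hp.out).coprime_iff_not_dvd).2 hpi
          obtain ⟨α, β, hab⟩ := h6
          apply ht1
          rw [ht, commutatorElement_eq_one_iff_mul_comm]
          have h7 : Commute w (u ^ i) := commutatorElement_eq_one_iff_mul_comm.1 h4
          have h8 : Commute w (u ^ (p : ℤ)) := by
            rw [zpow_natCast]; exact (hZc _ (h2 u hu) w hwP).symm
          have h9 : Commute w (u ^ (α * i + β * p)) := by
            rw [zpow_add, mul_comm α, mul_comm β, zpow_mul, zpow_mul]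
            exact (h7.zpow_right α).mul_right (h8.zpow_right β)
          rw [hab, zpow_one] at h9
          exact h9
      · intro hx
        refine ⟨⟨x, hBP hx⟩, ?_, rfl⟩
        change ⁅w, x⁆ = 1
        rw [commutatorElement_eq_one_iff_mul_comm]
        exact hwB x hx
    have h4 : Nat.card f.ker * Nat.card f.range = Nat.card (P : Subgroup G) := by
      rw [← Subgroup.index_ker, Subgroup.card_mul_index]
    have h5 : Nat.card f.ker = p ^ 2 := by
      rw [← hcardB, ← hker]
      exact (Subgroup.card_map_of_injective (P : Subgroup G).subtype_injective).symm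
    rw [← h4, h5, hrange, hZcard, pow_succ p 2]
  have hzp : ∀ s ∈ Z, s ^ p = 1 := by
    intro s hs
    have := pow_card_eq_one' (G := Z) (x := ⟨s, hs⟩)
    rw [hZcard] at this
    exact congrArg Subtype.val this
  have hwp : w ^ p = 1 := by
    rw [hwdef, conj_pow, hzp z hz, mul_one, mul_inv_cancel]
  have hcc : Nat.card (center ↥(P : Subgroup G)) = p := by
    refine Eq.trans ?_ hZcard
    have h4 : (center ↥(P : Subgroup G)).map (P : Subgroup G).subtype = Z := by
      ext x
      constructor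
      · rintro ⟨b, hb, rfl⟩
        exact (hcen b).1 hb
      · intro hx
        exact ⟨⟨x, hx.1⟩, (hcen _).2 hx, rfl⟩
    rw [← h4]
    exact (Subgroup.card_map_of_injective (P : Subgroup G).subtype_injective).symm
  refine ⟨hcardP, hcc, ⟨⟨w, hwP⟩, fun h => hw ((hcen _).1 h), Subtype.ext hwp⟩, ?_⟩
  -- p < 5
  by_contra h5
  push Not at h5
  have hst := (S0625.result h5 hG).1
  -- Q = B is elementary abelian
  let Om : Subgroup G :=
    { carrier := {x | x ∈ Q ∧ x ^ p = 1}
      one_mem' := ⟨one_mem _, one_pow _⟩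
      mul_mem' := by
        rintro a b ⟨ha, ha'⟩ ⟨hb, hb'⟩
        refine ⟨mul_mem ha hb, ?_⟩
        have : Commute a b := hBab a (hQB ha) b (hQB hb)
        rw [this.mul_pow, ha', hb', one_mul]
      inv_mem' := by
        rintro a ⟨ha, ha'⟩
        exact ⟨inv_mem ha, by rw [inv_pow, ha', inv_one]⟩ }
  have hZO : Z ≤ Om := fun x hx => ⟨hZQ hx, hzp x hx⟩
  have hOQ : Om ≤ Q := fun x hx => hx.1
  have hOB : Nat.card Om = p ^ 2 := by
    have h6 : Nat.card Om ∣ p ^ 2 := by rw [← hcardB]; exact Subgroup.card_dvd_of_le (hOQ.trans hQB)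
    obtain ⟨k, hk, hk'⟩ := (Nat.dvd_prime_pow hp.out).1 h6
    have h7 : p ∣ Nat.card Om := by rw [← hZcard]; exact Subgroup.card_dvd_of_le hZO
    have h8 : Nat.card Om ≠ p := by
      intro h8
      have : Z = Om := Subgroup.eq_of_le_of_card_ge hZO (by rw [h8, hZcard])
      apply hw
      rw [this]
      exact ⟨hwQ, hwp⟩
    interval_cases k
    · rw [hk', pow_zero] at h7
      exact absurd (Nat.dvd_one.1 h7) hp.out.one_lt.ne'
    · rw [pow_one] at hk'; exact absurd hk' h8
    · exact hk'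
  have hOe : Om = B := Subgroup.eq_of_le_of_card_ge (hOQ.trans hQB) (by rw [hOB, hcardB])
  have hQe : ∀ x ∈ Q, x ^ p = 1 := by
    intro x hx
    have : x ∈ Om := by rw [hOe]; exact hQB hx
    exact this.2
  have hQel : IsElementaryAbelian p Q := by
    rw [H34.isElementaryAbelian_iff]
    exact ⟨fun a ha b hb => hBab a (hQB ha) b (hQB hb), hQe⟩
  apply hne
  intro a ha
  have h6 := hst Q hQel a (by
    rw [eq_bot_iff, commutator_le]
    intro x hx c hc
    have hxZ : x ∈ Z := by
      have h7 : ⁅Q, zpowers a⁆ ≤ Z := by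
        rw [commutator_le]
        intro q hq c hc
        exact h1 q (hQP hq) c ((zpowers_le.2 ha) hc)
      exact h7 hx
    rw [mem_bot, commutatorElement_eq_one_iff_mul_comm]
    exact hZc x hxZ c ((zpowers_le.2 ha) hc))
  have hCQe : centralizer (Q : Set G) = Q := by
    apply le_antisymm hCQ
    intro x hx
    rw [mem_centralizer_iff]
    intro q hq
    exact hBab q (hQB hq) x (hQB hx)
  have key : ∀ (N : Subgroup G) [N.Normal], N = pCore p G → ∀ g : G, (QuotientGroup.mk g : G ⧸ N) ∈ pCore p (G ⧸ N) → g ∈ N := by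
    intro N _ hN g hg
    subst hN
    have h7 : pCore p (G ⧸ pCore p G) = ⊥ := HH.pCore_quotient_eq_bot
    have h8 : (QuotientGroup.mk g : G ⧸ pCore p G) ∈ (⊥ : Subgroup (G ⧸ pCore p G)) := by
      rw [← h7]; exact hg
    exact (QuotientGroup.eq_one_iff g).1 h8
  have h7 := key (centralizer (Q : Set G)) hCQe a h6
  rwa [hCQe] at h7

end Cfsg.Agent.H84.Sch
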