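import Cfsg.Agent.Solv.Frattini
import Cfsg.Agent.H84.SchG

/-!
A finite `p`-group `T` with an automorphism `α` of prime order `r ≠ p` which is trivial on every proper
`α`-invariant subgroup: `T` is abelian or semi-extraspecial; the case `|T| = p^3`, `p ≤ 3`.
-/

set_option autoImplicit false
set_option linter.unusedSectionVars false
set_option linter.unusedVariables false
set_option linter.style.haveILetI false

namespace Cfsg.Agent.H84.Sch

open Subgroup
open scoped commutatorElement

/-- hypotheses on `(T, α)` -/
structure Dat {T : Type*} [Group T] (p r : ℕ) (α : T ≃* T) : Prop where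
  pg : IsPGroup p T
  rp : r.Prime
  ne : r ≠ p
  inv : ∀ R : Subgroup T, R ≠ ⊤ → (∀ a ∈ R, α a ∈ R) → ∀ a ∈ R, α a = a
  per : ∀ a : T, (α^[r]) a = a
  nt : ∃ a : T, α a ≠ a

variable {T : Type*} [Group T] [Finite T] {p r : ℕ} [hp : Fact p.Prime] {α : T ≃* T}

theorem Dat.eq_one_of_pow (h : Dat p r α) {d : T} (hd : d ^ r = 1) : d = 1 := by
  rw [← orderOf_eq_one_iff]
  obtain ⟨k, hk⟩ := (IsPGroup.iff_orderOf.1 h.pg) d
  have h1 := orderOf_dvd_of_pow_eq_one hd
  refine Nat.eq_one_of_dvd_coprimes ?_ h1 (dvd_of_eq hk)
  exact Nat.Coprime.pow_right k ((Nat.coprime_primes h.rp hp.out).2 h.ne)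

theorem Dat.closure_eq (h : Dat p r α) : closure {d : T | ∃ a : T, a⁻¹ * α a = d} = ⊤ := by
  by_contra hne
  obtain ⟨a, ha⟩ := h.nt
  apply ha
  have hfix := h.inv _ hne (by
    intro d hd
    induction hd using closure_induction with
    | mem x hx =>
      obtain ⟨b, rfl⟩ := hx
      apply Subgroup.subset_closure
      exact ⟨α b, by rw [map_mul, map_inv]⟩
    | one => rw [map_one]; exact one_mem _
    | mul x y hx hy ihx ihy => rw [map_mul]; exact mul_mem ihx ihy
    | inv x hx ihx => rw [map_inv]; exact inv_mem ihx)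
  have hd : α (a⁻¹ * α a) = a⁻¹ * α a := hfix _ (Subgroup.subset_closure ⟨a, rfl⟩)
  set d := a⁻¹ * α a with hdd
  have had : α a = a * d := by rw [hdd, mul_inv_cancel_left]
  have hit : ∀ n : ℕ, (α^[n]) a = a * d ^ n := by
    intro n
    induction n with
    | zero => simp
    | succ n ih => rw [Function.iterate_succ_apply', ih, map_mul, map_pow, hd, had, pow_succ', mul_assoc]
  have h1 := hit r
  rw [h.per a] at h1
  have h2 : d ^ r = 1 := (mul_eq_left.1 h1.symm)
  rw [had, h.eq_one_of_pow h2, mul_one]

theorem Dat.frattini_fix (h : Dat p r α) {a : T} (ha : a ∈ frattini T) : α a = a := by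
  haveI : Nontrivial T := by
    obtain ⟨b, hb⟩ := h.nt
    exact ⟨α b, b, hb⟩
  have hne : frattini T ≠ ⊤ := by
    have := frattini_nongenerating (G := T) (K := (⊥ : Subgroup T))
    intro htop
    rw [htop] at this
    have h2 := this (by simp)
    exact bot_ne_top h2
  refine h.inv _ hne ?_ a ha
  intro b hb
  have hch := (inferInstance : (frattini T).Characteristic).fixed α
  rw [← hch, mem_comap] at hb
  exact hb

theorem Dat.center_of_fix (h : Dat p r α) {c : T} (hc : α c = c) : c ∈ center T := by
  have hall : ∀ x ∈ closure {d : T | ∃ a : T, a⁻¹ * α a = d}, x ∈ centralizer ({c} : Set T) := by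
    intro x hx
    induction hx using closure_induction with
    | mem x hx =>
      obtain ⟨a, rfl⟩ := hx
      have h1 : ⁅c, a⁆ ∈ frattini T :=
        Solv.commutator_le_frattini_of_pGroup h.pg (Subgroup.commutator_mem_commutator (mem_top c) (mem_top a))
      have h2 := h.frattini_fix h1
      rw [map_commutatorElement, hc] at h2
      rw [mem_centralizer_singleton_iff]
      simp only [commutatorElement_def] at h2
      have h3 : α a * c⁻¹ * (α a)⁻¹ = a * c⁻¹ * a⁻¹ := by
        have := congrArg (fun t => c⁻¹ * t) h2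
        simpa [mul_assoc] using this
      have h4 : (a⁻¹ * α a) * c⁻¹ = c⁻¹ * (a⁻¹ * α a) := by
        calc (a⁻¹ * α a) * c⁻¹ = a⁻¹ * (α a * c⁻¹ * (α a)⁻¹) * α a := by group
          _ = a⁻¹ * (a * c⁻¹ * a⁻¹) * α a := by rw [h3]
          _ = c⁻¹ * (a⁻¹ * α a) := by group
      calc (a⁻¹ * α a) * c = c * (c⁻¹ * (a⁻¹ * α a)) * c := by group
        _ = c * ((a⁻¹ * α a) * c⁻¹) * c := by rw [h4]
        _ = c * (a⁻¹ * α a) := by group
    | one => exact one_mem _
    | mul x y hx hy ihx ihy => exact mul_mem ihx ihy
    | inv x hx ihx => exact inv_mem ihx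
  rw [mem_center_iff]
  intro g
  have := hall g (by rw [h.closure_eq]; trivial)
  rw [mem_centralizer_singleton_iff] at this
  exact this

theorem Dat.center_iff (h : Dat p r α) (hna : center T ≠ ⊤) {c : T} : c ∈ center T ↔ α c = c := by
  constructor
  · refine h.inv _ hna ?_ c
    intro b hb
    rw [mem_center_iff] at hb ⊢
    intro g
    have := congrArg α (hb (α.symm g))
    rwa [map_mul, map_mul, α.apply_symm_apply] at this
  · exact h.center_of_fix

theorem Dat.see (h : Dat p r α) (hna : center T ≠ ⊤) : SEE p T := by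
  have hcomm : ∀ x y : T, ⁅x, y⁆ ∈ center T := by
    intro x y
    apply h.center_of_fix
    apply h.frattini_fix
    exact Solv.commutator_le_frattini_of_pGroup h.pg (Subgroup.commutator_mem_commutator (mem_top x) (mem_top y))
  refine ⟨hcomm, ?_, ?_⟩
  · intro x
    exact h.center_of_fix (h.frattini_fix (Solv.pow_mem_frattini_of_pGroup h.pg x))
  · intro u hu z hz
    have hcc : ∀ x y g : T, ⁅x, y⁆ * g = g * ⁅x, y⁆ := fun x y g => (mem_center_iff.1 (hcomm x y) g).symm
    let f : T →* T :=
      { toFun := fun g => ⁅u, g⁆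
        map_one' := by simp
        map_mul' := fun g k => comm_mul_right (hcc u k g) }
    have hM : f.range ≤ center T := by
      rintro _ ⟨g, rfl⟩; exact hcomm u g
    haveI hMn : f.range.Normal := by
      refine ⟨fun m hm g => ?_⟩
      have := mem_center_iff.1 (hM hm) g
      rw [this, mul_inv_cancel_right]
      exact hm
    -- the subgroup of elements with all commutators in M
    let Z1 : Subgroup T :=
      { carrier := {v | ∀ g : T, ⁅v, g⁆ ∈ f.range}
        one_mem' := fun g => by rw [commutatorElement_one_left]; exact one_mem _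
        mul_mem' := by
          intro v w hv hw g
          have h1 : ⁅v * w, g⁆ = v * ⁅w, g⁆ * v⁻¹ * ⁅v, g⁆ := by
            simp only [commutatorElement_def]; group
          rw [h1, ← hcc w g v, mul_inv_cancel_right]
          exact mul_mem (hw g) (hv g)
        inv_mem' := by
          intro v hv g
          have h1 : ⁅v⁻¹, g⁆ = v⁻¹ * ⁅v, g⁆⁻¹ * v := by
            simp only [commutatorElement_def]; group
          have h2 : ⁅v, g⁆⁻¹ * v = v * ⁅v, g⁆⁻¹ := by
            rw [inv_mul_eq_iff_eq_mul, ← mul_assoc, hcc v g v, mul_inv_cancel_right]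
          rw [h1, mul_assoc, h2, inv_mul_cancel_left]
          exact inv_mem (hv g) }
    have huZ1 : u ∈ Z1 := fun g => ⟨g, rfl⟩
    have hZ1 : Z1 = ⊤ := by
      by_contra hne
      apply hu
      apply h.center_of_fix
      refine h.inv Z1 hne ?_ u huZ1
      intro v hv g
      have h1 : ⁅α v, g⁆ = α ⁅v, α.symm g⁆ := by rw [map_commutatorElement, α.apply_symm_apply]
      rw [h1, (h.center_iff hna).1 (hcomm v _)]
      exact hv _
    have hall : ∀ v g : T, ⁅v, g⁆ ∈ f.range := by
      intro v g
      have : v ∈ Z1 := by rw [hZ1]; trivial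
      exact this g
    have hqc : ∀ a b : T ⧸ f.range, a * b = b * a := by
      intro a b
      induction a using QuotientGroup.induction_on with | _ a
      induction b using QuotientGroup.induction_on with | _ b
      rw [← QuotientGroup.mk_mul, ← QuotientGroup.mk_mul, QuotientGroup.eq]
      have h1 : (a * b)⁻¹ * (b * a) = ⁅b⁻¹, a⁻¹⁆ := by
        simp only [commutatorElement_def]; group
      rw [h1]; exact hall _ _
    letI : CommGroup (T ⧸ f.range) := { (inferInstance : Group (T ⧸ f.range)) with mul_comm := hqc }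
    let N : T →* T ⧸ f.range :=
      { toFun := fun a => ∏ i ∈ Finset.range r, ((α^[i] a : T) : T ⧸ f.range)
        map_one' := by
          have : ∀ i : ℕ, (α^[i]) (1 : T) = 1 := fun i => by
            induction i with
            | zero => rfl
            | succ i ih => rw [Function.iterate_succ_apply', ih, map_one]
          simp [this]
        map_mul' := by
          intro a b
          have : ∀ i : ℕ, (α^[i]) (a * b) = (α^[i]) a * (α^[i]) b := fun i => by
            induction i with
            | zero => rfl
            | succ i ih => rw [Function.iterate_succ_apply', Function.iterate_succ_apply', Function.iterate_succ_apply', ih, map_mul]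
          simp only [this, QuotientGroup.mk_mul]
          rw [Finset.prod_mul_distrib] }
    have hNα : ∀ a : T, N (α a) = N a := by
      intro a
      change ∏ i ∈ Finset.range r, ((α^[i] (α a) : T) : T ⧸ f.range) = ∏ i ∈ Finset.range r, ((α^[i] a : T) : T ⧸ f.range)
      have h1 := Finset.prod_range_succ (fun i => ((α^[i] a : T) : T ⧸ f.range)) r
      have h2 := Finset.prod_range_succ' (fun i => ((α^[i] a : T) : T ⧸ f.range)) r
      rw [h1] at h2
      rw [h.per a] at h2
      simp only [Function.iterate_zero, id_eq] at h2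
      have h3 := mul_right_cancel h2
      rw [h3]
      refine Finset.prod_congr rfl ?_
      intro i _
      rw [Function.iterate_succ_apply]
    have hN1 : ∀ a : T, N a = 1 := by
      have : closure {d : T | ∃ a : T, a⁻¹ * α a = d} ≤ N.ker := by
        rw [closure_le]
        rintro _ ⟨a, rfl⟩
        change N (a⁻¹ * α a) = 1
        rw [map_mul, map_inv, hNα, inv_mul_cancel]
      rw [h.closure_eq] at this
      intro a
      exact this (mem_top a)
    have hzr : z ^ r ∈ f.range := by
      have h1 := hN1 z
      have h2 : ∀ i : ℕ, (α^[i]) z = z := by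
        intro i
        induction i with
        | zero => rfl
        | succ i ih => rw [Function.iterate_succ_apply', ih, (h.center_iff hna).1 hz]
      change ∏ i ∈ Finset.range r, ((α^[i] z : T) : T ⧸ f.range) = 1 at h1
      simp only [h2, Finset.prod_const, Finset.card_range] at h1
      rw [← QuotientGroup.mk_pow] at h1
      exact (QuotientGroup.eq_one_iff _).1 h1
    have hzM : z ∈ f.range := by
      obtain ⟨k, hk⟩ := (IsPGroup.iff_orderOf.1 h.pg) z
      have hcop : IsCoprime (r : ℤ) (p ^ k : ℕ) := by
        rw [Nat.isCoprime_iff_coprime]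
        exact Nat.Coprime.pow_right k ((Nat.coprime_primes h.rp hp.out).2 h.ne)
      obtain ⟨a, b, hab⟩ := hcop
      have h1 : z = (z ^ r) ^ a * (z ^ (p ^ k : ℕ)) ^ b := by
        rw [← zpow_natCast z r, ← zpow_natCast z (p ^ k), ← zpow_mul, ← zpow_mul, ← zpow_add, mul_comm (r : ℤ),
          mul_comm ((p ^ k : ℕ) : ℤ), hab, zpow_one]
      rw [h1, ← hk, pow_orderOf_eq_one, one_zpow, mul_one]
      exact zpow_mem hzr a
    obtain ⟨g, hg⟩ := hzM
    exact ⟨g, hg⟩

theorem Dat.fp' (h : Dat p r α) (hna : center T ≠ ⊤) {u : T} (hu : α u ∈ center T ⊔ zpowers u) : u ∈ center T := by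
  by_contra hnc
  have hRne : center T ⊔ zpowers u ≠ ⊤ := by
    intro htop
    apply hnc
    have h1 : center T ⊔ zpowers u ≤ centralizer {u} :=
      sup_le (center_le_centralizer _) (by rw [zpowers_le]; exact mem_centralizer_singleton_iff.2 rfl)
    rw [htop] at h1
    rw [mem_center_iff]
    intro g
    have h2 := h1 (mem_top g)
    rw [mem_centralizer_singleton_iff] at h2
    exact h2
  have hmap : (center T ⊔ zpowers u).map α.toMonoidHom ≤ center T ⊔ zpowers u := by
    rw [Subgroup.map_sup]
    refine sup_le ?_ ?_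
    · refine le_trans ?_ le_sup_left
      rintro _ ⟨c, hc, rfl⟩
      have : α c = c := (h.center_iff hna).1 hc
      change α c ∈ center T
      rw [this]; exact hc
    · rw [MonoidHom.map_zpowers, zpowers_le]
      exact hu
  have := h.inv _ hRne (fun a ha => hmap ⟨a, ha, rfl⟩) u (mem_sup_right (mem_zpowers u))
  exact hnc (h.center_of_fix this)

theorem Dat.fp (h : Dat p r α) (hna : center T ≠ ⊤) {u : T} (hu : u⁻¹ * α u ∈ center T) : u ∈ center T := by
  apply h.fp' hna
  have : α u = (u⁻¹ * α u) * u := by
    rw [← mem_center_iff.1 hu u, mul_inv_cancel_left]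
  rw [this]
  exact mul_mem (mem_sup_left hu) (mem_sup_right (mem_zpowers u))

theorem Dat.r_ne_two (h : Dat p r α) (hna : center T ≠ ⊤) : r ≠ 2 := by
  rintro rfl
  obtain ⟨u, hu⟩ : ∃ u : T, u ∉ center T := by
    by_contra hcon
    push Not at hcon
    exact hna ((eq_top_iff' _).2 hcon)
  apply hu
  have hper : α (α u) = u := h.per u
  have hv : u * α u ∈ center T := by
    apply h.fp hna
    rw [map_mul, hper]
    have h1 : (u * α u)⁻¹ * (α u * u) = ⁅(α u)⁻¹, u⁻¹⁆ := by
      simp only [commutatorElement_def]; group
    rw [h1]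
    exact (h.see hna).comm _ _
  apply h.fp' hna
  have h2 : α u = (u * α u) * u⁻¹ := by
    rw [← mem_center_iff.1 hv u⁻¹, inv_mul_cancel_left]
  rw [h2]
  exact mul_mem (mem_sup_left hv) (mem_sup_right (inv_mem (mem_zpowers u)))

theorem Dat.count (h : Dat p r α) (hna : center T ≠ ⊤) : Nat.card T ≡ Nat.card (center T) [MOD r] := by
  haveI : Fact r.Prime := ⟨h.rp⟩
  let A : Subgroup (MulAut T) := zpowers (α : MulAut T)
  have hpow : ∀ (n : ℕ) (a : T), ((α : MulAut T) ^ n) a = (α^[n]) a := by
    intro n
    induction n with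
    | zero => intro a; rfl
    | succ n ih =>
      intro a
      rw [pow_succ', MulAut.mul_apply, ih, Function.iterate_succ_apply']
  have hA1 : (α : MulAut T) ^ r = 1 := by
    ext a
    rw [hpow, h.per]; rfl
  have hA : IsPGroup r A := by
    have : Nat.card A ∣ r := by
      rw [Nat.card_zpowers]
      exact orderOf_dvd_of_pow_eq_one hA1
    obtain ⟨k, -, hk⟩ := (Nat.dvd_prime_pow h.rp).1 (by rw [pow_one]; exact this : Nat.card A ∣ r ^ 1)
    exact IsPGroup.of_card hk
  have h1 := hA.card_modEq_card_fixedPoints T
  have h2 : MulAction.fixedPoints A T = (center T : Set T) := by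
    ext a
    rw [MulAction.mem_fixedPoints, SetLike.mem_coe, h.center_iff hna]
    constructor
    · intro hh
      exact hh ⟨α, mem_zpowers _⟩
    · rintro hh ⟨g, hg⟩
      obtain ⟨n, rfl⟩ := hg
      have hst : (α : MulAut T) ∈ MulAction.stabilizer (MulAut T) a := hh
      exact zpow_mem hst n
  rw [h2] at h1
  exact h1

theorem Dat.absurd_small (h : Dat p r α) (hna : center T ≠ ⊤) (hc3 : Nat.card T = p ^ 3)
    (hcz : Nat.card (center T) = p) {w : T} (hw : w ∉ center T) (hwp : w ^ p = 1) (hp5 : p < 5) : False := by
  have hr2 := h.r_ne_two hna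
  have hcount := h.count hna
  rw [hc3, hcz] at hcount
  have hr := h.rp
  have hne := h.ne
  have hpp := hp.out
  have hdvd : r ∣ p ^ 3 - p := (Nat.modEq_iff_dvd' (by nlinarith [hpp.two_le, pow_pos hpp.pos 2, pow_succ p 2, Nat.le_self_pow (n := 3) (by norm_num) p])).1 hcount.symm
  have hp23 : p = 2 ∨ p = 3 := by
    have := hpp.two_le
    have h4 : p ≠ 4 := by rintro rfl; exact absurd hpp (by norm_num)
    omega
  rcases hp23 with rfl | rfl
  · -- p = 2
    have hr3 : r = 3 := by
      have h6 : r ∣ 2 * 3 := by simpa using hdvd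
      rcases (hr.dvd_mul).1 h6 with h2 | h3
      · exact absurd ((Nat.prime_dvd_prime_iff_eq hr Nat.prime_two).1 h2) hr2
      · exact (Nat.prime_dvd_prime_iff_eq hr Nat.prime_three).1 h3
    subst hr3
    have hper : ∀ a : T, α (α (α a)) = a := h.per
    have hcα : ∀ {c : T}, α c ∈ center T → c ∈ center T := by
      intro c hc
      have := (h.center_iff hna).1 hc
      exact (h.center_iff hna).2 (α.injective this)
    have hzz : ∀ z ∈ center T, z * z = 1 := by
      intro z hz
      have : (⟨z, hz⟩ : center T) ^ Nat.card (center T) = 1 := pow_card_eq_one'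
      rw [hcz] at this
      have h2 := congrArg Subtype.val this
      simpa [pow_two] using h2
    have hcq : Nat.card (T ⧸ center T) = 4 := by
      have := card_eq_card_quotient_mul_card_subgroup (center T)
      rw [hc3, hcz] at this
      omega
    let f : Fin 4 → T ⧸ center T := ![(1 : T), (w : T), (α w : T), (α (α w) : T)]
    have n1 : (w : T ⧸ center T) ≠ ((1 : T) : T ⧸ center T) := by
      intro hh
      rw [QuotientGroup.mk_one, QuotientGroup.eq_one_iff] at hh
      exact hw hh
    have n2 : ((α w : T) : T ⧸ center T) ≠ ((1 : T) : T ⧸ center T) := by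
      intro hh
      rw [QuotientGroup.mk_one, QuotientGroup.eq_one_iff] at hh
      exact hw (hcα hh)
    have n3 : ((α (α w) : T) : T ⧸ center T) ≠ ((1 : T) : T ⧸ center T) := by
      intro hh
      rw [QuotientGroup.mk_one, QuotientGroup.eq_one_iff] at hh
      exact hw (hcα (hcα hh))
    have n4 : (w : T ⧸ center T) ≠ ((α w : T) : T ⧸ center T) := by
      intro hh
      rw [QuotientGroup.eq] at hh
      exact hw (h.fp hna hh)
    have n5 : ((α w : T) : T ⧸ center T) ≠ ((α (α w) : T) : T ⧸ center T) := by
      intro hh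
      rw [QuotientGroup.eq] at hh
      exact hw (hcα (h.fp hna hh))
    have n6 : ((α (α w) : T) : T ⧸ center T) ≠ (w : T ⧸ center T) := by
      intro hh
      rw [QuotientGroup.eq] at hh
      have h3 : (α (α w))⁻¹ * α (α (α w)) ∈ center T := by rw [hper]; exact hh
      exact hw (hcα (hcα (h.fp hna h3)))
    have hfinj : Function.Injective f := by
      intro i j hij
      fin_cases i <;> fin_cases j <;> first | rfl | (exfalso; first | exact n1 hij | exact n1 hij.symm | exact n2 hij | exact n2 hij.symm | exact n3 hij | exact n3 hij.symm | exact n4 hij | exact n4 hij.symm | exact n5 hij | exact n5 hij.symm | exact n6 hij | exact n6 hij.symm)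
    have hfbij : Function.Bijective f :=
      hfinj.bijective_of_nat_card_le (by rw [hcq, Nat.card_eq_fintype_card, Fintype.card_fin])
    have hww : w * w = 1 := by rw [← pow_two]; exact hwp
    have hsq : ∀ u : T, u * u = 1 := by
      intro u
      have hgen : ∀ v : T, v * v = 1 → (v : T ⧸ center T) = (u : T ⧸ center T) → u * u = 1 := by
        intro v hv hvu
        rw [QuotientGroup.eq] at hvu
        have hu : u = v * (v⁻¹ * u) := by rw [mul_inv_cancel_left]
        set z := v⁻¹ * u with hz
        have hzc := mem_center_iff.1 hvu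
        calc u * u = v * z * (v * z) := by rw [← hu]
          _ = v * (z * v) * z := by group
          _ = v * (v * z) * z := by rw [hzc v]
          _ = (v * v) * (z * z) := by group
          _ = 1 := by rw [hv, hzz z hvu, one_mul]
      obtain ⟨i, hi⟩ := hfbij.2 (u : T ⧸ center T)
      fin_cases i
      · exact hgen 1 (one_mul 1) hi
      · exact hgen w hww hi
      · exact hgen (α w) (by rw [← map_mul, hww, map_one]) hi
      · exact hgen (α (α w)) (by rw [← map_mul, ← map_mul, hww, map_one, map_one]) hi
    apply hna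
    rw [eq_top_iff']
    intro a
    rw [mem_center_iff]
    intro b
    have h1 := hsq (b * a)
    have h2 := hsq a
    have h3 := hsq b
    have ha : a⁻¹ = a := inv_eq_of_mul_eq_one_left h2
    have hb : b⁻¹ = b := inv_eq_of_mul_eq_one_left h3
    have hba : (b * a)⁻¹ = b * a := inv_eq_of_mul_eq_one_left h1
    rw [← hba, mul_inv_rev, ha, hb]
  · -- p = 3
    have h24 : r ∣ 2 ^ 3 * 3 := by simpa using hdvd
    rcases (hr.dvd_mul).1 h24 with h2 | h3
    · exact hr2 ((Nat.prime_dvd_prime_iff_eq hr Nat.prime_two).1 (hr.dvd_of_dvd_pow h2))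
    · exact hne ((Nat.prime_dvd_prime_iff_eq hr Nat.prime_three).1 h3)

end Cfsg.Agent.H84.Sch
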