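import Cfsg.Agent.H84.SchT
import Cfsg.Agent.H52.Schmidt
import Cfsg.Agent.H76.PSolvable

/-!
The normal Sylow subgroup of a minimal non-nilpotent group.
-/

set_option autoImplicit false
set_option linter.unusedSectionVars false
set_option linter.unusedVariables false
set_option linter.style.haveILetI false

namespace Cfsg.Agent.H84.Sch

open Subgroup
open scoped commutatorElement

section

variable {X : Type*} [Group X] [Finite X]

theorem mem_sup_zpowers {R : Subgroup X} {x : X} (hn : ∀ a ∈ R, x * a * x⁻¹ ∈ R) {m : X} (hm : m ∈ R ⊔ zpowers x) :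
    ∃ a ∈ R, ∃ n : ℤ, a * x ^ n = m := by
  have hxN : x ∈ normalizer (R : Set X) := by
    have hle : R.map (MulAut.conj x).toMonoidHom ≤ R := by
      rintro _ ⟨a, ha, rfl⟩
      exact hn a ha
    have heq : R.map (MulAut.conj x).toMonoidHom = R := by
      apply eq_of_le_of_card_ge hle
      rw [Nat.card_congr (R.equivMapOfInjective _ (MulAut.conj x).injective).toEquiv.symm]
    rw [mem_normalizer_iff]
    intro h
    constructor
    · exact hn h
    · intro hh
      rw [← heq] at hh
      obtain ⟨b, hb, hbe⟩ := hh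
      have : b = h := (MulAut.conj x).injective hbe
      rwa [← this]
  have h1 : m ∈ ((R ⊔ zpowers x : Subgroup X) : Set X) := hm
  rw [coe_mul_of_right_le_normalizer_left R (zpowers x) (by rw [zpowers_le]; exact hxN)] at h1
  obtain ⟨a, ha, b, hb, hab⟩ := Set.mem_mul.1 h1
  obtain ⟨n, rfl⟩ := mem_zpowers_iff.1 hb
  exact ⟨a, ha, n, hab⟩

theorem exists_dat {p : ℕ} [hp : Fact p.Prime] (hX : Cfsg.IsMinimalNonNilpotent X) (P : Sylow p X)
    (hPn : (P : Subgroup X).Normal) (hP1 : (P : Subgroup X) ≠ ⊥) :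
    ∃ (r : ℕ) (α : ↥(P : Subgroup X) ≃* ↥(P : Subgroup X)), Dat p r α := by
  obtain ⟨r, q, x, Q0, hr, hq, hrq, hQn, hQ, ⟨k, hk⟩, htop, hxC⟩ := H52.schmidt_structure hX
  haveI : Fact q.Prime := ⟨hq⟩
  have hPmem : ∀ y : X, IsPGroup p (zpowers y) → y ∈ (P : Subgroup X) := by
    intro y hy
    have h1 : IsPGroup p ((P : Subgroup X) ⊔ zpowers y : Subgroup X) := P.2.to_sup_of_normal_left hy
    have h2 := P.3 h1 le_sup_left
    have h3 : y ∈ (P : Subgroup X) ⊔ zpowers y := mem_sup_right (mem_zpowers y)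
    rw [h2] at h3
    exact h3
  have hord : ∀ y ∈ (P : Subgroup X), ∃ m, orderOf y = p ^ m := by
    intro y hy
    obtain ⟨m, hm⟩ := (IsPGroup.iff_orderOf.1 P.2) ⟨y, hy⟩
    rw [Subgroup.orderOf_mk] at hm
    exact ⟨m, hm⟩
  have hordQ : ∀ y ∈ Q0, ∃ m, orderOf y = q ^ m := by
    intro y hy
    obtain ⟨m, hm⟩ := (IsPGroup.iff_orderOf.1 hQ) ⟨y, hy⟩
    rw [Subgroup.orderOf_mk] at hm
    exact ⟨m, hm⟩
  have hz : ∀ m ∈ Q0 ⊔ zpowers x, ∃ a ∈ Q0, ∃ n : ℤ, a * x ^ n = m := by
    intro m hm
    exact mem_sup_zpowers (fun a ha => hQn.conj_mem a ha x) hm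
  -- p = q
  have hpq : p = q := by
    by_contra hpq
    -- P disjoint from Q0
    have hdisj : ∀ y ∈ (P : Subgroup X), y ∈ Q0 → y = 1 := by
      intro y hy hy'
      obtain ⟨m, hm⟩ := hord y hy
      obtain ⟨m', hm'⟩ := hordQ y hy'
      rw [← orderOf_eq_one_iff]
      refine Nat.eq_one_of_dvd_coprimes (a := p ^ m) (b := q ^ m') ?_ (dvd_of_eq hm) (dvd_of_eq hm')
      exact Nat.Coprime.pow _ _ ((Nat.coprime_primes hp.out hq).2 hpq)
    -- p = r
    have hpr : p = r := by
      by_contra hpr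
      apply hP1
      rw [eq_bot_iff]
      intro y hy
      rw [mem_bot]
      apply hdisj y hy
      obtain ⟨a, ha, n, han⟩ := hz y (by rw [htop]; trivial)
      rw [← QuotientGroup.eq_one_iff, ← orderOf_eq_one_iff]
      obtain ⟨m, hm⟩ := hord y hy
      refine Nat.eq_one_of_dvd_coprimes (a := p ^ m) (b := r ^ k) ?_ ?_ ?_
      · exact Nat.Coprime.pow _ _ ((Nat.coprime_primes hp.out hr).2 hpr)
      · rw [← hm]; exact orderOf_map_dvd (QuotientGroup.mk' Q0) y
      · rw [← han, QuotientGroup.mk_mul, (QuotientGroup.eq_one_iff a).2 ha, one_mul, ← hk]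
        refine (orderOf_map_dvd (QuotientGroup.mk' Q0) (x ^ n)).trans ?_
        apply orderOf_dvd_of_pow_eq_one
        rw [← zpow_natCast, zpow_comm, zpow_natCast, pow_orderOf_eq_one, one_zpow]
    subst hpr
    have hxP : x ∈ (P : Subgroup X) := by
      apply hPmem
      exact IsPGroup.of_card (n := k) (by rw [Nat.card_zpowers, hk])
    apply hxC
    rw [mem_centralizer_iff]
    intro y hy
    have h1 : ⁅y, x⁆ = 1 := by
      apply hdisj
      · rw [commutatorElement_def]
        exact mul_mem (hPn.conj_mem x hxP y) (inv_mem hxP)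
      · rw [commutatorElement_def, mul_assoc, mul_assoc]
        apply mul_mem hy
        have := hQn.conj_mem _ (inv_mem hy) x
        rwa [mul_assoc] at this
    exact commutatorElement_eq_one_iff_mul_comm.1 h1
  subst hpq
  have hQP : Q0 = (P : Subgroup X) := by
    apply le_antisymm
    · exact hQ.le_sylow_of_normal P
    · intro y hy
      obtain ⟨a, ha, n, han⟩ := hz y (by rw [htop]; trivial)
      rw [← QuotientGroup.eq_one_iff, ← orderOf_eq_one_iff]
      obtain ⟨m, hm⟩ := hord y hy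
      refine Nat.eq_one_of_dvd_coprimes (a := p ^ m) (b := r ^ k) ?_ ?_ ?_
      · exact Nat.Coprime.pow _ _ ((Nat.coprime_primes hp.out hr).2 (Ne.symm hrq))
      · rw [← hm]; exact orderOf_map_dvd (QuotientGroup.mk' Q0) y
      · rw [← han, QuotientGroup.mk_mul, (QuotientGroup.eq_one_iff a).2 ha, one_mul, ← hk]
        refine (orderOf_map_dvd (QuotientGroup.mk' Q0) (x ^ n)).trans ?_
        apply orderOf_dvd_of_pow_eq_one
        rw [← zpow_natCast, zpow_comm, zpow_natCast, pow_orderOf_eq_one, one_zpow]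
  subst hQP
  -- a p'-power of x lying in P is trivial
  have hxz : ∀ n : ℤ, x ^ n ∈ (P : Subgroup X) → x ^ n = 1 := by
    intro n hn
    obtain ⟨m, hm⟩ := hord _ hn
    rw [← orderOf_eq_one_iff]
    refine Nat.eq_one_of_dvd_coprimes (a := p ^ m) (b := r ^ k) ?_ (dvd_of_eq hm) ?_
    · exact Nat.Coprime.pow _ _ ((Nat.coprime_primes hp.out hr).2 (Ne.symm hrq))
    · rw [← hk]
      apply orderOf_dvd_of_pow_eq_one
      rw [← zpow_natCast, zpow_comm, zpow_natCast, pow_orderOf_eq_one, one_zpow]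
  have hcommM : ∀ (M : Subgroup X), M ≠ ⊤ → ∀ a ∈ M, ∀ y ∈ M, a ∈ (P : Subgroup X) → orderOf y ∣ r ^ k → a * y = y * a := by
    intro M hM a ha y hy haP hyr
    obtain ⟨m, hm⟩ := hord _ haP
    have := H52.commute_of_isNilpotent_of_coprime (hX.2 M hM) (x := ⟨a, ha⟩) (y := ⟨y, hy⟩) (by
      rw [Subgroup.orderOf_mk, Subgroup.orderOf_mk, hm]
      exact Nat.Coprime.coprime_dvd_right hyr (Nat.Coprime.pow _ _ ((Nat.coprime_primes hp.out hr).2 (Ne.symm hrq))))
    exact congrArg Subtype.val this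
  let α : ↥(P : Subgroup X) ≃* ↥(P : Subgroup X) := MulAut.conjNormal x
  have hα : ∀ a : ↥(P : Subgroup X), ((α a : ↥(P : Subgroup X)) : X) = x * a * x⁻¹ := fun a => MulAut.conjNormal_apply x a
  have hαn : ∀ (n : ℕ) (a : ↥(P : Subgroup X)), (((α^[n]) a : ↥(P : Subgroup X)) : X) = x ^ n * a * (x ^ n)⁻¹ := by
    intro n
    induction n with
    | zero => intro a; simp
    | succ n ih =>
      intro a
      rw [Function.iterate_succ_apply', hα, ih, pow_succ', mul_inv_rev]
      simp only [mul_assoc]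
  refine ⟨r, α, P.2, hr, hrq, ?_, ?_, ?_⟩
  · intro R hR hinv a ha
    have hM : R.map (P : Subgroup X).subtype ⊔ zpowers x ≠ ⊤ := by
      intro hMt
      apply hR
      rw [eq_top_iff']
      intro b
      obtain ⟨c, hc, n, hcn⟩ := mem_sup_zpowers (R := R.map (P : Subgroup X).subtype) (x := x) (by
        rintro _ ⟨d, hd, rfl⟩
        exact ⟨α d, hinv d hd, hα d⟩) (m := (b : X)) (by rw [hMt]; trivial)
      obtain ⟨d, hd, rfl⟩ := hc
      have h1 : x ^ n ∈ (P : Subgroup X) := by
        have : x ^ n = (d : X)⁻¹ * (b : X) := by rw [← hcn]; simp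
        rw [this]
        exact mul_mem (inv_mem d.2) b.2
      rw [hxz n h1, mul_one] at hcn
      have : d = b := Subtype.ext hcn
      rwa [← this]
    apply Subtype.ext
    rw [hα]
    have h1 := hcommM _ hM (a : X) (mem_sup_left ⟨a, ha, rfl⟩) x (mem_sup_right (mem_zpowers x)) a.2 (dvd_of_eq hk)
    rw [← h1, mul_inv_cancel_right]
  · intro a
    have hM : (P : Subgroup X) ⊔ zpowers (x ^ r) ≠ ⊤ := by
      intro hMt
      obtain ⟨c, hc, n, hcn⟩ := mem_sup_zpowers (R := (P : Subgroup X)) (x := x ^ r) (fun a ha => hPn.conj_mem a ha _)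
        (m := x) (by rw [hMt]; trivial)
      have h1 : x ^ (1 - (r : ℤ) * n) ∈ (P : Subgroup X) := by
        have : x ^ (1 - (r : ℤ) * n) = c := by
          rw [zpow_sub, zpow_one, zpow_mul, zpow_natCast]
          nth_rewrite 1 [← hcn]
          rw [mul_inv_cancel_right]
        rw [this]; exact hc
      have h2 := hxz _ h1
      have hk0 : k ≠ 0 := by
        rintro rfl
        rw [pow_zero, orderOf_eq_one_iff] at hk
        apply hxC
        rw [hk]; exact one_mem _
      have h3 : (r : ℤ) ∣ 1 - (r : ℤ) * n := by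
        have h4 := orderOf_dvd_iff_zpow_eq_one.2 h2
        rw [hk] at h4
        refine dvd_trans ?_ h4
        exact_mod_cast dvd_pow_self r hk0
      have h5 : (r : ℤ) ∣ 1 := by
        have := dvd_add h3 (dvd_mul_right (r : ℤ) n)
        simpa using this
      have h6 : r ∣ 1 := by exact_mod_cast h5
      exact hr.one_lt.ne' (Nat.dvd_one.1 h6)
    apply Subtype.ext
    rw [hαn]
    have h1 := hcommM _ hM (a : X) (mem_sup_left a.2) (x ^ r) (mem_sup_right (mem_zpowers _)) a.2
      ((orderOf_pow_dvd r).trans (dvd_of_eq hk))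
    rw [← h1, mul_inv_cancel_right]
  · by_contra hcon
    push Not at hcon
    apply hxC
    rw [mem_centralizer_iff]
    intro a ha
    have := congrArg Subtype.val (hcon ⟨a, ha⟩)
    rw [hα] at this
    exact (mul_inv_eq_iff_eq_mul.1 this).symm

end

section

variable {G : Type*} [Group G] [Finite G] {p : ℕ} [hp : Fact p.Prime]

theorem sylow_le_pCore (hG : IsPSolvable p G) (hO : pPrimeCore p G = ⊥) (S : Sylow p G) {T : Type*} [Group T] [Finite T]
    {r : ℕ} {α : T ≃* T} (hD : Dat p r α) (e : T ≃* ↥(S : Subgroup G)) : (S : Subgroup G) ≤ pCore p G := by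
  by_cases hna : center T = ⊤
  · -- abelian
    refine le_trans ?_ (H76.centralizer_pCore_le hG hO)
    intro s hs
    rw [mem_centralizer_iff]
    intro t ht
    have ht' := Solv.pCore_le_sylow S ht
    have h1 : e.symm ⟨t, ht'⟩ ∈ center T := by rw [hna]; trivial
    rw [mem_center_iff] at h1
    have h2 := congrArg e (h1 (e.symm ⟨s, hs⟩))
    rw [map_mul, map_mul, e.apply_symm_apply, e.apply_symm_apply] at h2
    exact (congrArg Subtype.val h2).symm
  · by_contra hne
    obtain ⟨h1, h2, ⟨w, hw, hwp⟩, h5⟩ := core hG hO S ((hD.see hna).of_equiv e) hne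
    refine hD.absurd_small hna (w := e.symm w) ?_ ?_ ?_ ?_ h5
    · rw [← h1]; exact Nat.card_congr e.toEquiv
    · rw [← h2]; exact Nat.card_congr (centerCongr e).toEquiv
    · intro hc
      apply hw
      rw [mem_center_iff] at hc ⊢
      intro g
      have := congrArg e (hc (e.symm g))
      rwa [map_mul, map_mul, e.apply_symm_apply, e.apply_symm_apply] at this
    · rw [← map_pow, hwp, map_one]

end

end Cfsg.Agent.H84.Sch
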